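import Cfsg.Agent.Lib.Spor.HeOut.Data

/-!
Kernel checks of the certificate.
-/

namespace CfsgLib.SporOut.He

open CfsgLib.PresCert

theorem inv_ok : data.cA.okInv = true := by decide +kernel

theorem rel_ok : data.okRel = true := by decide +kernel

theorem sig_ok : data.okSig = true := by decide +kernel

theorem cent_ok : data.okCent = true := by decide +kernel

theorem outer_ok : data.okOuter = true := by decide +kernel

theorem expA_ok : data.okExp data.lA data.xA 0 data.eA = true := by decide +kernel

theorem expB_ok : data.okExp data.lB data.xB 1 data.eB = true := by decide +kernel

end CfsgLib.SporOut.He
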