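import Cfsg.Agent.Lib.Spor.HeOut.Data

/-!
Kernel checks of the certificate.
-/

namespace CfsgLib.SporOut.He

open CfsgLib.PresCert

theorem words_ok : data.D.okWords data.D.g data.D.words = true := by decide +kernel

theorem levA_ok : data.D.okLevels [] data.lA = true := by decide +kernel

theorem levB_ok : data.D.okLevels [] data.lB = true := by decide +kernel

end CfsgLib.SporOut.He
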