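import Cfsg.Agent.Lib.Spor.HeInvol.Centralizer
import Cfsg.Agent.Lib.Spor.HeOut.CheckTab
import Cfsg.Agent.Lib.Spor.HeOut.CheckA
import Cfsg.Agent.Lib.Spor.HeOut.CheckB
import Cfsg.Agent.Lib.Spor.HeOut.CheckC
import Cfsg.Agent.Lib.Spor.HeOut.CheckMem

/-!
The outer automorphism group of the presented Held group has order two.
-/

set_option autoImplicit false

namespace CfsgLib.SporOut.He

open CfsgLib.PresCert CfsgLib.Spor Cfsg

theorem valid : data.Valid where
  words := words_ok
  three := rfl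
  inv := inv_ok
  levA := levA_ok
  levB := levB_ok
  expA := expA_ok
  expB := expB_ok
  xA := by decide +kernel
  s1 := by decide +kernel
  hs := by decide +kernel
  rel := rel_ok
  a := a_ok
  b := b_ok
  npairs := by decide +kernel
  sig := sig_ok
  cent := cent_ok
  outer := outer_ok

/-- the three elements -/
theorem exists_gens : ∀ l, ∃ x : Cfsg.Spor.He, l < 3 → ∀ i : Fin data.D.n,
    ((CfsgLib.Spor.HeInvol.π x i : Fin data.D.n) : ℕ) = data.D.img l i := by
  intro l
  by_cases hl : l < 3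
  swap
  · exact ⟨1, fun h => absurd h hl⟩
  let I : memData.Interp :=
    ⟨fun k => CfsgLib.Spor.HeInvol.π (CfsgLib.Spor.HeInvol.gen (CfsgLib.Spor.HeInvol.letter k)), fun k hk i => by
      have hk' : k < 7 := hk
      have e := CfsgLib.Spor.HeInvol.π_gen (CfsgLib.Spor.HeInvol.letter k)
      rw [CfsgLib.Spor.HeInvol.idx_letter k hk'] at e
      refine ((congrArg (fun τ : Equiv.Perm (Fin CfsgLib.Spor.HeInvol.data.n) =>
        ((τ i : Fin CfsgLib.Spor.HeInvol.data.n) : ℕ)) e).trans
        (PermData.genPerm_img CfsgLib.Spor.HeInvol.invol_ok (show k < CfsgLib.Spor.HeInvol.data.g from hk') i)).trans ?_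
      exact (Nat.eq_of_beq_eq_true
        (allBelow_spec (List.all_eq_true.1 memGen_ok k (List.mem_range.2 hk')) i i.2)).symm⟩
  have h := List.all_eq_true.1 memIdx_ok l (List.mem_range.2 hl)
  rw [Bool.and_eq_true, Nat.blt_eq] at h
  obtain ⟨σ, hσ, he⟩ := Tab.elem_exists I memWords_ok _ h.1
  have hx : ∃ x : Cfsg.Spor.He, ∀ i : Fin memData.n,
      ((CfsgLib.Spor.HeInvol.π x i : Fin memData.n) : ℕ) = (σ i : Fin memData.n) := by
    let J : Subgroup (Equiv.Perm (Fin memData.n)) := CfsgLib.Spor.HeInvol.π.range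
    have hle : Tab.grp I ≤ J := (Subgroup.closure_le J).2 fun τ ⟨k, _, e⟩ => ⟨_, e⟩
    obtain ⟨x, e⟩ := hle hσ
    exact ⟨x, fun i => congrArg (fun τ : Equiv.Perm (Fin memData.n) => ((τ i : Fin memData.n) : ℕ)) e⟩
  obtain ⟨x, hx⟩ := hx
  exact ⟨x, fun _ i => ((hx i).trans (he i)).trans (Nat.eq_of_beq_eq_true (allBelow_spec h.2 i i.2))⟩

theorem card_out (hb : CfsgLib.Spor.HeInvol.Bound) : Nat.card (Out Cfsg.Spor.He) = 2 := by
  have := CfsgLib.Spor.HeInvol.finite_of_bound hb
  have hlow : 4030387200 ≤ Nat.card Cfsg.Spor.He := by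
    have e := PermData.le_card_of_hom (D := CfsgLib.Spor.HeInvol.data) (⊤ : Subgroup Cfsg.Spor.He)
      CfsgLib.Spor.HeInvol.π (fun k hk => ⟨CfsgLib.Spor.HeInvol.gen (CfsgLib.Spor.HeInvol.letter k),
        trivial, fun i => by
          rw [CfsgLib.Spor.HeInvol.π_gen, CfsgLib.Spor.HeInvol.idx_letter k hk]
          exact PermData.genPerm_img CfsgLib.Spor.HeInvol.invol_ok hk i⟩)
      CfsgLib.Spor.HeInvol.words_ok CfsgLib.Spor.HeInvol.levels CfsgLib.Spor.HeInvol.levels_ok
    rwa [CfsgLib.Spor.HeInvol.levels_prod, Subgroup.card_top] at e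
  have hcard : Nat.card Cfsg.Spor.He = 4030387200 := by
    refine le_antisymm ?_ hlow
    have := hb.2
    rwa [Subgroup.card_top] at this
  choose gens hgens using exists_gens
  have : Fact data.p.Prime := ⟨by decide +kernel⟩
  exact natCard_out_eq_two data valid hcard (by decide +kernel)
    (by decide +kernel) (by decide +kernel) CfsgLib.Spor.HeInvol.π gens hgens

end CfsgLib.SporOut.He
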